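import Groth.Prelude.Def_VecGrp
import Mathlib.RingTheory.Localization.BaseChange
import Mathlib.RingTheory.Spectrum.Prime.Topology
import Mathlib.RingTheory.Flat.Basic
import Mathlib.LinearAlgebra.TensorProduct.Finiteness
import Mathlib.AlgebraicGeometry.Morphisms.Flat
import Mathlib.AlgebraicGeometry.Morphisms.QuasiCompact

/-!
# Affine charts of a group scheme over an affine base and local membership in `B ⊗ E`
-/

set_option autoImplicit false
set_option linter.style.haveILetI false
set_option backward.isDefEq.respectTransparency.types false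

universe u

open CategoryTheory MonoidalCategory CartesianMonoidalCategory MonObj AlgebraicGeometry TopologicalSpace
open scoped TensorProduct

noncomputable section

namespace Groth.Agent.GModFin3

variable {R : Type u} [CommRing R]

section Local

variable {Q : Type u} [AddCommGroup Q] [Module R Q]

/-- An element of `B ⊗ Q` which vanishes locally on `Spec B` vanishes. -/
theorem eq_zero_of_local {B : Type u} [CommRing B] [Algebra R B] (z : B ⊗[R] Q)
    (h : ∀ p : PrimeSpectrum B, ∃ f : B, f ∉ p.asIdeal ∧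
      (IsScalarTower.toAlgHom R B (Localization.Away f)).toLinearMap.rTensor Q z = 0) : z = 0 := by
  let ann : Ideal B := (Submodule.span B {z}).annihilator
  suffices (1 : B) ∈ ann by
    simpa using Submodule.mem_annihilator_span_singleton _ _ |>.1 this
  by_contra h1
  obtain ⟨m, hm, hle⟩ := Ideal.exists_le_maximal ann (fun e => h1 (by rw [e]; exact Submodule.mem_top))
  obtain ⟨f, hf, hz⟩ := h ⟨m, hm.isPrime⟩
  let e := TensorProduct.AlgebraTensorModule.cancelBaseChange R B (Localization.Away f) (Localization.Away f) Q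
  have h2 : e ((1 : Localization.Away f) ⊗ₜ[B] z) =
      (IsScalarTower.toAlgHom R B (Localization.Away f)).toLinearMap.rTensor Q z := by
    clear hz h hle h1 ann
    induction z using TensorProduct.induction_on with
    | zero => simp
    | add a b ha hb => rw [TensorProduct.tmul_add, map_add, map_add, ha, hb]
    | tmul b q => simp [e, Algebra.smul_def]
  rw [hz, LinearEquiv.map_eq_zero_iff] at h2
  obtain ⟨⟨_, n, rfl⟩, hn⟩ := (IsLocalizedModule.eq_zero_iff (Submonoid.powers f)
    (TensorProduct.mk B (Localization.Away f) (B ⊗[R] Q) 1)).1 h2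
  exact hf (hm.isPrime.mem_of_pow_mem n (hle (Submodule.mem_annihilator_span_singleton _ _ |>.2 hn)))

variable {E : Type u} [AddCommGroup E] [Module R E]

/-- Membership in the image of `B ⊗ N` is detected by the quotient. -/
theorem mem_range_iff (N : Submodule R E) {B : Type u} [CommRing B] [Algebra R B] (z : B ⊗[R] E) :
    z ∈ LinearMap.range (N.subtype.baseChange B) ↔ N.mkQ.baseChange B z = 0 := by
  have hex := lTensor_exact B (LinearMap.exact_subtype_mkQ N) N.mkQ_surjective
  constructor
  · rintro ⟨w, rfl⟩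
    exact hex.apply_apply_eq_zero w
  · intro hz
    obtain ⟨w, hw⟩ := (hex z).1 hz
    exact ⟨w, hw⟩

/-- Membership in the image of `B ⊗ N` is local on `Spec B`. -/
theorem mem_range_of_local (N : Submodule R E) {B : Type u} [CommRing B] [Algebra R B] (z : B ⊗[R] E)
    (h : ∀ p : PrimeSpectrum B, ∃ f : B, f ∉ p.asIdeal ∧
      VecGrp.Wmap (M := E) (IsScalarTower.toAlgHom R B (Localization.Away f)) z ∈
        LinearMap.range (N.subtype.baseChange (Localization.Away f))) :
    z ∈ LinearMap.range (N.subtype.baseChange B) := by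
  rw [mem_range_iff]
  refine eq_zero_of_local _ fun p => ?_
  obtain ⟨f, hf, hz⟩ := h p
  refine ⟨f, hf, ?_⟩
  rw [mem_range_iff] at hz
  rw [← hz]
  exact VecGrp.baseChange_natural N.mkQ _ z

theorem Wmap_mem_range (N : Submodule R E) {B C : Type u} [CommRing B] [Algebra R B] [CommRing C] [Algebra R C]
    (ψ : B →ₐ[R] C) {z : B ⊗[R] E} (hz : z ∈ LinearMap.range (N.subtype.baseChange B)) :
    VecGrp.Wmap (M := E) ψ z ∈ LinearMap.range (N.subtype.baseChange C) := by
  obtain ⟨w, rfl⟩ := hz
  exact ⟨VecGrp.Wmap ψ w, (VecGrp.baseChange_natural N.subtype ψ w).symm⟩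

/-- Every element of `B ⊗ E` comes from a finitely generated submodule. -/
theorem exists_fg_mem_range {B : Type u} [CommRing B] [Algebra R B] (z : B ⊗[R] E) :
    ∃ N : Submodule R E, N.FG ∧ z ∈ LinearMap.range (N.subtype.baseChange B) := by
  induction z using TensorProduct.induction_on with
  | zero => exact ⟨⊥, Submodule.fg_bot, zero_mem _⟩
  | tmul b e => exact ⟨Submodule.span R {e}, Submodule.fg_span_singleton e,
      ⟨b ⊗ₜ ⟨e, Submodule.mem_span_singleton_self e⟩, rfl⟩⟩
  | add a b ha hb =>
    obtain ⟨P, hP, ha⟩ := ha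
    obtain ⟨P', hP', hb⟩ := hb
    refine ⟨P ⊔ P', hP.sup hP', add_mem ?_ ?_⟩
    · obtain ⟨w, rfl⟩ := ha
      refine ⟨(Submodule.inclusion (le_sup_left : P ≤ P ⊔ P')).baseChange B w, ?_⟩
      rw [← LinearMap.comp_apply, ← LinearMap.baseChange_comp, Submodule.subtype_comp_inclusion]
    · obtain ⟨w, rfl⟩ := hb
      refine ⟨(Submodule.inclusion (le_sup_right : P' ≤ P ⊔ P')).baseChange B w, ?_⟩
      rw [← LinearMap.comp_apply, ← LinearMap.baseChange_comp, Submodule.subtype_comp_inclusion]

end Local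

section Charts

variable (G : Over (Spec (CommRingCat.of R)))

/-- The ring of functions on an affine open, as an algebra over the base. -/
@[reducible] def algebraOfOpen {U : G.left.Opens} (hU : IsAffineOpen U) : Algebra R Γ(G.left, U) :=
  (Spec.preimage (hU.fromSpec ≫ G.hom)).hom.toAlgebra

/-- The tautological point of an affine open. -/
def chartPt {U : G.left.Opens} (hU : IsAffineOpen U) :
    letI := algebraOfOpen G hU
    VecGrp.pt R Γ(G.left, U) ⟶ G :=
  letI := algebraOfOpen G hU
  Over.homMk hU.fromSpec (Spec.map_preimage _).symm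

theorem flat_algebraOfOpen [Flat G.hom] {U : G.left.Opens} (hU : IsAffineOpen U) :
    letI := algebraOfOpen G hU
    Module.Flat R Γ(G.left, U) := by
  letI := algebraOfOpen G hU
  have h : Flat (Spec.map (Spec.preimage (hU.fromSpec ≫ G.hom))) := by
    rw [Spec.map_preimage]; infer_instance
  exact RingHom.flat_algebraMap_iff.1 (Flat.SpecMap_iff.1 h)

variable {G}

/-- Every point factors, locally on its source, through a chart. -/
theorem exists_local_factor {κ : Type*} (U : κ → G.left.Opens) (hU : ∀ i, IsAffineOpen (U i))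
    (hcov : ∀ x, ∃ i, x ∈ U i) {B : Type u} [CommRing B] [Algebra R B] (g : VecGrp.pt R B ⟶ G)
    (p : PrimeSpectrum B) :
    ∃ f : B, f ∉ p.asIdeal ∧ ∃ i, letI := algebraOfOpen G (hU i)
      ∃ ψ : Γ(G.left, U i) →ₐ[R] Localization.Away f,
        VecGrp.ptMap (IsScalarTower.toAlgHom R B (Localization.Away f)) ≫ g = VecGrp.ptMap ψ ≫ chartPt G (hU i) := by
  obtain ⟨i, hi⟩ := hcov (g.left.base p)
  let W : Opens (PrimeSpectrum B) := g.left ⁻¹ᵁ U i
  obtain ⟨_, ⟨f, rfl⟩, hpf, hle⟩ :=
    Opens.isBasis_iff_nbhd.1 PrimeSpectrum.isBasis_basic_opens (show p ∈ W from hi)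
  refine ⟨f, hpf, i, ?_⟩
  letI := algebraOfOpen G (hU i)
  let j : Spec (CommRingCat.of (Localization.Away f)) ⟶ Spec (CommRingCat.of B) :=
    Spec.map (CommRingCat.ofHom (algebraMap B (Localization.Away f)))
  have hrange : Set.range (j ≫ g.left).base ⊆ Set.range (hU i).fromSpec.base := by
    rw [(hU i).range_fromSpec]
    rintro _ ⟨q, rfl⟩
    refine hle ?_
    have : j.base q ∈ Set.range (PrimeSpectrum.comap (algebraMap B (Localization.Away f))) := ⟨q, rfl⟩
    rwa [PrimeSpectrum.localization_away_comap_range (Localization.Away f) f] at this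
  obtain ⟨h, hh⟩ : ∃ h, h ≫ (hU i).fromSpec = j ≫ g.left := ⟨_, IsOpenImmersion.lift_fac _ _ hrange⟩
  have hψ : algebraMap R Γ(G.left, U i) = (Spec.preimage ((hU i).fromSpec ≫ G.hom)).hom := rfl
  have hcomm : CommRingCat.ofHom (algebraMap R Γ(G.left, U i)) ≫ Spec.preimage h =
      CommRingCat.ofHom (algebraMap R (Localization.Away f)) := Spec.map_injective (by
    rw [Spec.map_comp, Spec.map_preimage, hψ, CommRingCat.ofHom_hom, Spec.map_preimage, ← Category.assoc, hh,
      Category.assoc, Over.w g]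
    show j ≫ Spec.map _ = _
    rw [← Spec.map_comp, ← CommRingCat.ofHom_comp, ← IsScalarTower.algebraMap_eq])
  let ψ : Γ(G.left, U i) →ₐ[R] Localization.Away f :=
    { (Spec.preimage h).hom with commutes' := fun r => ConcreteCategory.congr_hom hcomm r }
  refine ⟨ψ, Over.OverMorphism.ext ?_⟩
  show Spec.map (CommRingCat.ofHom _) ≫ g.left = Spec.map (CommRingCat.ofHom _) ≫ (hU i).fromSpec
  rw [show CommRingCat.ofHom ψ.toRingHom = Spec.preimage h from rfl, Spec.map_preimage, hh]
  rfl

/-- A finite affine cover of a quasi-compact scheme over an affine base. -/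
theorem exists_cover (G : Over (Spec (CommRingCat.of R))) [QuasiCompact G.hom] :
    ∃ s : Set G.left.Opens, s.Finite ∧ (∀ U ∈ s, IsAffineOpen U) ∧ ∀ x, ∃ U ∈ s, x ∈ U := by
  haveI : CompactSpace G.left := QuasiCompact.compactSpace_of_compactSpace G.hom
  obtain ⟨s, hfs, hs, hcov⟩ := isCompact_univ.elim_finite_subcover_image (b := G.left.affineOpens)
    (c := fun U => (U : Set G.left)) (fun U _ => U.2) fun x _ => by
      obtain ⟨U, hU, hx, -⟩ := exists_isAffineOpen_mem_and_subset (U := (⊤ : G.left.Opens)) (Set.mem_univ x)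
      exact Set.mem_biUnion hU hx
  refine ⟨s, hs, fun U hU => hfs hU, fun x => ?_⟩
  obtain ⟨U, hU, hx⟩ := Set.mem_iUnion₂.1 (hcov (Set.mem_univ x))
  exact ⟨U, hU, hx⟩

end Charts

section GMod

variable {G : Over (Spec (CommRingCat.of R))} [GrpObj G] {E : Type u} [AddCommGroup E] [Module R E]
  (m : VecGrp.GMod G E) {κ : Type*} (U : κ → G.left.Opens) (hU : ∀ i, IsAffineOpen (U i))
  (hcov : ∀ x, ∃ i, x ∈ U i)

include hU hcov in
/-- To keep the translates of `y` in a submodule it suffices to check the charts. -/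
theorem rho_mem_range_of_charts (N : Submodule R E) (y : E)
    (h : ∀ i, letI := algebraOfOpen G (hU i)
      m.ρ Γ(G.left, U i) (chartPt G (hU i)) ((1 : Γ(G.left, U i)) ⊗ₜ[R] y) ∈
        LinearMap.range (N.subtype.baseChange Γ(G.left, U i)))
    {B : Type u} [CommRing B] [Algebra R B] (g : VecGrp.pt R B ⟶ G) :
    m.ρ B g ((1 : B) ⊗ₜ[R] y) ∈ LinearMap.range (N.subtype.baseChange B) := by
  refine mem_range_of_local N _ fun p => ?_
  obtain ⟨f, hf, i, ψ, hψ⟩ := exists_local_factor U hU hcov g p
  refine ⟨f, hf, ?_⟩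
  letI := algebraOfOpen G (hU i)
  rw [m.naturality, hψ, VecGrp.Wmap_tmul, map_one, ← map_one ψ, ← VecGrp.Wmap_tmul, ← m.naturality]
  exact Wmap_mem_range N ψ (h i)

end GMod

section Shear

variable {G : Over (Spec (CommRingCat.of R))} [GrpObj G] {E : Type u} [AddCommGroup E] [Module R E]
  (m : VecGrp.GMod G E)

/-- The restriction of the action of a point to `1 ⊗ E`. -/
def orb {C : Type u} [CommRing C] [Algebra R C] (u : VecGrp.pt R C ⟶ G) : E →ₗ[R] C ⊗[R] E :=
  ((m.ρ C u : C ⊗[R] E →ₗ[C] C ⊗[R] E).restrictScalars R).comp (TensorProduct.mk R C E 1)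

@[simp] theorem orb_apply {C : Type u} [CommRing C] [Algebra R C] (u : VecGrp.pt R C ⟶ G) (e : E) :
    orb m u e = m.ρ C u ((1 : C) ⊗ₜ[R] e) := rfl

/-- Acting by the product of two points with values in a tensor product of rings. -/
theorem assoc_lTensor_orb {B C : Type u} [CommRing B] [Algebra R B] [CommRing C] [Algebra R C]
    (g : VecGrp.pt R B ⟶ G) (u : VecGrp.pt R C ⟶ G) (e : E) :
    (TensorProduct.assoc R B C E).symm ((orb m u).lTensor B (orb m g e)) =
      m.ρ (B ⊗[R] C) ((VecGrp.ptMap (Algebra.TensorProduct.includeRight : C →ₐ[R] B ⊗[R] C) ≫ u) *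
        (VecGrp.ptMap (Algebra.TensorProduct.includeLeft : B →ₐ[R] B ⊗[R] C) ≫ g)) (((1 : B ⊗[R] C)) ⊗ₜ[R] e) := by
  have h : ∀ w : B ⊗[R] E, (TensorProduct.assoc R B C E).symm ((orb m u).lTensor B w) =
      m.ρ (B ⊗[R] C) (VecGrp.ptMap (Algebra.TensorProduct.includeRight : C →ₐ[R] B ⊗[R] C) ≫ u)
        (VecGrp.Wmap (Algebra.TensorProduct.includeLeft : B →ₐ[R] B ⊗[R] C) w) := by
    intro w
    induction w using TensorProduct.induction_on with
    | zero => simp
    | add a b ha hb => simp only [map_add, ha, hb]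
    | tmul b x =>
      rw [LinearMap.lTensor_tmul, VecGrp.Wmap_tmul, Algebra.TensorProduct.includeLeft_apply]
      rw [show ((b ⊗ₜ[R] (1 : C)) ⊗ₜ[R] x : (B ⊗[R] C) ⊗[R] E) = (b ⊗ₜ[R] (1 : C)) • ((1 : B ⊗[R] C) ⊗ₜ[R] x) by
        rw [TensorProduct.smul_tmul', smul_eq_mul, _root_.mul_one]]
      rw [LinearEquiv.map_smul, show (1 : B ⊗[R] C) ⊗ₜ[R] x =
        VecGrp.Wmap (Algebra.TensorProduct.includeRight : C →ₐ[R] B ⊗[R] C) ((1 : C) ⊗ₜ[R] x) by
          rw [VecGrp.Wmap_tmul, map_one], ← m.naturality, ← orb_apply]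
      generalize orb m u x = v
      induction v using TensorProduct.induction_on with
      | zero => simp
      | add a c ha hc => simp only [TensorProduct.tmul_add, map_add, smul_add, ha, hc]
      | tmul c z =>
        rw [TensorProduct.assoc_symm_tmul, VecGrp.Wmap_tmul, TensorProduct.smul_tmul', smul_eq_mul,
          Algebra.TensorProduct.includeRight_apply, Algebra.TensorProduct.tmul_mul_tmul, _root_.mul_one, _root_.one_mul]
  rw [h, orb_apply, m.naturality, map_mul, LinearEquiv.mul_apply, VecGrp.Wmap_tmul, map_one]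

end Shear

end Groth.Agent.GModFin3
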