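import Groth.Agent.Lib.GModFin3.Basic
import Mathlib.RingTheory.Noetherian.Basic

/-!
# Finitely generated stable submodules over a Noetherian base
-/

set_option autoImplicit false
set_option linter.style.haveILetI false
set_option backward.isDefEq.respectTransparency.types false

universe u

open CategoryTheory MonoidalCategory CartesianMonoidalCategory MonObj AlgebraicGeometry
open scoped TensorProduct

noncomputable section

namespace Groth.Agent.GModFin3

theorem exists_fg_stable_of_noetherian {R : Type u} [CommRing R] [IsNoetherianRing R]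
    (G : Over (Spec (CommRingCat.of R))) [GrpObj G] [Flat G.hom] [QuasiCompact G.hom]
    {E : Type u} [AddCommGroup E] [Module R E] (m : VecGrp.GMod G E) (M : Submodule R E) (hM : M.FG) :
    ∃ N : Submodule R E, M ≤ N ∧ N.FG ∧
      ∀ (B : Type u) [CommRing B] [Algebra R B] (g : VecGrp.pt R B ⟶ G) (x : E), x ∈ N →
        m.ρ B g ((1 : B) ⊗ₜ[R] x) ∈ LinearMap.range (N.subtype.baseChange B) := by
  classical
  obtain ⟨s, hs, hUaff, hUcov⟩ := exists_cover G
  haveI := hs.fintype
  let U : s → G.left.Opens := Subtype.val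
  have hU : ∀ i, IsAffineOpen (U i) := fun i => hUaff _ i.2
  have hcov : ∀ x, ∃ i, x ∈ U i := fun x => (hUcov x).elim fun V hV => ⟨⟨V, hV.1⟩, hV.2⟩
  letI : ∀ i, Algebra R Γ(G.left, U i) := fun i => algebraOfOpen G (hU i)
  let cρ : ∀ i, E →ₗ[R] Γ(G.left, U i) ⊗[R] E := fun i => orb m (chartPt G (hU i))
  obtain ⟨t, rfl⟩ := hM
  choose P hP hmem using fun (i : s) (x : E) => exists_fg_mem_range (cρ i x)
  let N' : Submodule R E := Submodule.span R t ⊔ ⨆ q : s × t, P q.1 q.2
  have hN' : N'.FG := (Submodule.fg_span t.finite_toSet).sup (Submodule.fg_iSup _ fun q => hP _ _)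
  let S : ∀ i, Submodule R (Γ(G.left, U i) ⊗[R] E) := fun i =>
    (LinearMap.range (N'.subtype.baseChange Γ(G.left, U i))).restrictScalars R
  let N : Submodule R E := N' ⊓ ⨅ i, (S i).comap (cρ i)
  have hmono : ∀ {P' : Submodule R E} (B : Type u) [CommRing B] [Algebra R B], P' ≤ N' →
      LinearMap.range (P'.subtype.baseChange B) ≤ LinearMap.range (N'.subtype.baseChange B) := by
    rintro P' B _ _ h _ ⟨w, rfl⟩
    exact ⟨(Submodule.inclusion h).baseChange B w, by
      rw [← LinearMap.comp_apply, ← LinearMap.baseChange_comp, Submodule.subtype_comp_inclusion]⟩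
  have hMN : Submodule.span R (t : Set E) ≤ N := Submodule.span_le.2 fun x hx =>
    ⟨Submodule.mem_sup_left (Submodule.subset_span hx), Submodule.mem_iInf _ |>.2 fun i =>
      hmono _ ((le_iSup (fun q : s × t => P q.1 q.2) (i, ⟨x, hx⟩)).trans le_sup_right) (hmem i x)⟩
  have hNfg : N.FG := by
    haveI : Module.Finite R N' := Module.Finite.iff_fg.2 hN'
    haveI : IsNoetherian R N' := isNoetherian_of_isNoetherianRing_of_finite R N'
    exact isNoetherian_submodule.1 ‹_› N inf_le_left
  refine ⟨N, hMN, hNfg, fun B _ _ g y hy => rho_mem_range_of_charts m U hU hcov N y (fun l => ?_) g⟩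
  -- work on one flat chart
  have step : ∀ {C : Type u} [CommRing C] [Algebra R C] (h : VecGrp.pt R C ⟶ G),
      m.ρ C h ((1 : C) ⊗ₜ[R] y) ∈ LinearMap.range (N'.subtype.baseChange C) := fun h =>
    rho_mem_range_of_charts m U hU hcov N' y (fun i => (Submodule.mem_iInf _).1 hy.2 i) h
  haveI := flat_algebraOfOpen G (hU l)
  let Bl := Γ(G.left, U l)
  let F : N' →ₗ[R] ((i : s) → Γ(G.left, U i) ⊗[R] (E ⧸ N')) :=
    LinearMap.pi fun i => ((N'.mkQ.baseChange _).restrictScalars R).comp ((cρ i).comp N'.subtype)
  have hker : ∀ z : N', z ∈ LinearMap.ker F ↔ (z : E) ∈ N := by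
    intro z
    refine ⟨fun hz => ⟨z.2, (Submodule.mem_iInf _).2 fun i => (mem_range_iff N' _).2 (congrFun hz i)⟩,
      fun hz => funext fun i => (mem_range_iff N' _).1 ((Submodule.mem_iInf _).1 hz.2 i)⟩
  obtain ⟨w, hw⟩ := step (chartPt G (hU l))
  have hFw : F.lTensor Bl w = 0 := by
    refine (TensorProduct.piRight R R Bl fun i : s => Γ(G.left, U i) ⊗[R] (E ⧸ N')).injective ?_
    rw [map_zero]
    funext i
    let φ := (TensorProduct.assoc R Bl Γ(G.left, U i) (E ⧸ N')).symm
    refine φ.injective ?_
    rw [Pi.zero_apply, map_zero]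
    have h1 : ∀ v : Bl ⊗[R] N',
        φ (TensorProduct.piRight R R Bl (fun i : s => Γ(G.left, U i) ⊗[R] (E ⧸ N')) (F.lTensor Bl v) i) =
          N'.mkQ.baseChange (Bl ⊗[R] Γ(G.left, U i))
            ((TensorProduct.assoc R Bl Γ(G.left, U i) E).symm ((cρ i).lTensor Bl (N'.subtype.baseChange Bl v))) := by
      intro v
      induction v using TensorProduct.induction_on with
      | zero => simp
      | add a b ha hb => simp only [map_add, Pi.add_apply, ha, hb]
      | tmul b z =>
        rw [LinearMap.lTensor_tmul, TensorProduct.piRight_apply, TensorProduct.piRightHom_tmul,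
          LinearMap.baseChange_tmul, LinearMap.lTensor_tmul]
        show φ (b ⊗ₜ (N'.mkQ.baseChange _ (cρ i (z : E)))) = _
        rw [Submodule.coe_subtype]
        generalize cρ i (z : E) = q
        induction q using TensorProduct.induction_on with
        | zero => simp
        | add a c ha hc => simp only [TensorProduct.tmul_add, map_add, ha, hc]
        | tmul a e => simp [φ]
    rw [h1, hw, ← mem_range_iff]
    have h2 := assoc_lTensor_orb m (chartPt G (hU l)) (chartPt G (hU i)) y
    rw [orb_apply] at h2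
    show (TensorProduct.assoc R Bl Γ(G.left, U i) E).symm ((orb m (chartPt G (hU i))).lTensor Bl _) ∈ _
    rw [h2]
    exact step _
  have hex : Function.Exact ((LinearMap.ker F).subtype.lTensor Bl) (F.lTensor Bl) :=
    Module.Flat.lTensor_exact Bl (LinearMap.exact_subtype_ker_map F)
  obtain ⟨v, rfl⟩ := (hex w).1 hFw
  rw [← hw]
  let inc : LinearMap.ker F →ₗ[R] N :=
    LinearMap.codRestrict N (N'.subtype.comp (LinearMap.ker F).subtype) fun z => (hker z.1).1 z.2
  refine ⟨inc.baseChange Bl v, ?_⟩
  clear hw hFw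
  induction v using TensorProduct.induction_on with
  | zero => simp
  | add a b ha hb => simp only [map_add, ha, hb]
  | tmul b z => rfl

end Groth.Agent.GModFin3
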