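import Groth.Agent.Lib.GModFin3.Sections
import Mathlib.Algebra.Module.Projective
import Mathlib.LinearAlgebra.DirectSum.Finsupp

/-!
# Finitely generated stable submodules: flat module, projective coordinate ring
-/

set_option autoImplicit false
set_option linter.style.haveILetI false
set_option backward.isDefEq.respectTransparency.types false

universe u

open CategoryTheory MonoidalCategory CartesianMonoidalCategory MonObj AlgebraicGeometry
open scoped TensorProduct

noncomputable section

namespace Groth.Agent.GModFin3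

/-- An element of `A ⊗ E` with `A` projective is a finite sum of basis-like vectors against functionals applied to it. -/
theorem exists_coordinates {R : Type u} [CommRing R] {A E : Type u} [AddCommGroup A] [Module R A]
    [Module.Projective R A] [AddCommGroup E] [Module R E] (v : A ⊗[R] E) :
    ∃ (s : Finset A) (π : A → A →ₗ[R] R),
      v = ∑ a ∈ s, a ⊗ₜ[R] (TensorProduct.lid R E ((π a).rTensor E v)) := by
  classical
  obtain ⟨σ, hσ⟩ := Module.projective_def'.1 (inferInstance : Module.Projective R A)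
  let π : A → A →ₗ[R] R := fun a => (Finsupp.lapply a).comp σ
  let f : A →₀ E := TensorProduct.finsuppScalarLeft R E A (σ.rTensor E v)
  refine ⟨f.support, π, ?_⟩
  have hπ : ∀ a, f a = TensorProduct.lid R E ((π a).rTensor E v) := fun a => by
    show TensorProduct.finsuppScalarLeft R E A (σ.rTensor E v) a = _
    rw [LinearMap.rTensor_comp, LinearMap.comp_apply]
    generalize σ.rTensor E v = w
    induction w using TensorProduct.induction_on with
    | zero => simp
    | add x y hx hy => simp only [map_add, Finsupp.add_apply, hx, hy]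
    | tmul p e => simp
  have hsum : ∀ w : (A →₀ R) ⊗[R] E, (Finsupp.linearCombination R id).rTensor E w =
      Finsupp.sum (TensorProduct.finsuppScalarLeft R E A w) fun a e => a ⊗ₜ[R] e := by
    intro w
    induction w using TensorProduct.induction_on with
    | zero => simp
    | add x y hx hy =>
      rw [map_add, map_add, Finsupp.sum_add_index' (by simp) (by intros; simp [TensorProduct.tmul_add]), hx, hy]
    | tmul p e =>
      induction p using Finsupp.induction_linear with
      | zero => simp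
      | add x y hx hy =>
        rw [TensorProduct.add_tmul, map_add, map_add,
          Finsupp.sum_add_index' (by simp) (by intros; simp [TensorProduct.tmul_add]), hx, hy]
      | single a r =>
        rw [show TensorProduct.finsuppScalarLeft R E A (Finsupp.single a r ⊗ₜ[R] e) = Finsupp.single a (r • e) from by
          ext b; by_cases h : a = b <;> simp [h]]
        rw [Finsupp.sum_single_index (by simp)]
        simp [TensorProduct.smul_tmul]
  have h1 : (Finsupp.linearCombination R id).rTensor E (σ.rTensor E v) = v := by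
    rw [← LinearMap.comp_apply, ← LinearMap.rTensor_comp, hσ, LinearMap.rTensor_id, LinearMap.id_apply]
  rw [hsum] at h1
  exact h1.symm.trans (Finset.sum_congr rfl fun a _ => by rw [← hπ])

variable {R : Type u} [CommRing R] {G : Over (Spec (CommRingCat.of R))} [GrpObj G]
  {E : Type u} [AddCommGroup E] [Module R E] [Module.Flat R E] (m : VecGrp.GMod G E)

/-- The coaction: an element of `Γ(G) ⊗ E` computing the action of all points on `x`. -/
theorem exists_coaction (𝒰 : Cover G) (x : E) : letI := algebraTop G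
    ∃ c : Γ(G.left, ⊤) ⊗[R] E, ∀ (B : Type u) [CommRing B] [Algebra R B] (g : VecGrp.pt R B ⟶ G),
      m.ρ B g ((1 : B) ⊗ₜ[R] x) = (pull g).toLinearMap.rTensor E c := by
  letI := algebraTop G; letI := fun i => algebraOfOpen G (𝒰.hU i); letI := fun t => algebraOfOpen G (𝒰.hV t)
  obtain ⟨c, hc⟩ := 𝒰.exists_of_compatible E (fun i => orb m (chartPt G (𝒰.hU i)) x) fun t => by
    show VecGrp.Wmap _ (m.ρ _ _ _) = VecGrp.Wmap _ (m.ρ _ _ _)
    rw [m.naturality, m.naturality, TensorProduct.mk_apply, TensorProduct.mk_apply, VecGrp.Wmap_tmul, VecGrp.Wmap_tmul, map_one, map_one, ptMap_resAff,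
      ptMap_resAff]
  refine ⟨c, fun B _ _ g => ?_⟩
  rw [← sub_eq_zero]
  refine eq_zero_of_local _ fun p => ?_
  obtain ⟨f, hf, i, ψ, hψ⟩ := exists_local_factor 𝒰.U 𝒰.hU 𝒰.cov g p
  refine ⟨f, hf, ?_⟩
  rw [map_sub, sub_eq_zero]
  have h2 : (pull (VecGrp.ptMap ψ ≫ chartPt G (𝒰.hU i))).toLinearMap =
      ψ.toLinearMap ∘ₗ (resTop G (𝒰.hU i)).toLinearMap := LinearMap.ext fun a => by
    show pull _ a = ψ (resTop G _ a)
    rw [pull_ptMap, pull_chartPt]
  have h3 : (IsScalarTower.toAlgHom R B (Localization.Away f)).toLinearMap ∘ₗ (pull g).toLinearMap =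
      (pull (VecGrp.ptMap ψ ≫ chartPt G (𝒰.hU i))).toLinearMap := LinearMap.ext fun a => by
    show _ = pull _ a
    rw [← hψ, pull_ptMap]
    rfl
  show VecGrp.Wmap _ (m.ρ B g _) = _
  rw [m.naturality, hψ, VecGrp.Wmap_tmul, map_one, ← map_one ψ, ← VecGrp.Wmap_tmul, ← m.naturality]
  rw [← LinearMap.comp_apply, ← LinearMap.rTensor_comp, h3, h2, LinearMap.rTensor_comp, LinearMap.comp_apply, hc i]
  rfl

/-- The coaction on translated elements lives in any submodule containing the coefficients. -/
theorem rho_mem_of_coefficients [Flat G.hom] (𝒰 : Cover G)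
    (x : E) (c : letI := algebraTop G; Γ(G.left, ⊤) ⊗[R] E)
    (hc : letI := algebraTop G; ∀ (B : Type u) [CommRing B] [Algebra R B] (g : VecGrp.pt R B ⟶ G),
      m.ρ B g ((1 : B) ⊗ₜ[R] x) = (pull g).toLinearMap.rTensor E c)
    (N : Submodule R E)
    (hN : letI := algebraTop G; c ∈ LinearMap.range (N.subtype.lTensor Γ(G.left, ⊤)))
    (φ : letI := algebraTop G; Γ(G.left, ⊤) →ₗ[R] R)
    {B : Type u} [CommRing B] [Algebra R B] (g : VecGrp.pt R B ⟶ G) :
    letI := algebraTop G
    m.ρ B g ((1 : B) ⊗ₜ[R] TensorProduct.lid R E (φ.rTensor E c)) ∈ LinearMap.range (N.subtype.baseChange B) := by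
  letI := algebraTop G
  refine rho_mem_range_of_charts m 𝒰.U 𝒰.hU 𝒰.cov N _ (fun l => ?_) g
  letI := fun i => algebraOfOpen G (𝒰.hU i); letI := fun t => algebraOfOpen G (𝒰.hV t)
  haveI := flat_algebraOfOpen G (𝒰.hU l)
  let A := Γ(G.left, ⊤)
  let Bl := Γ(G.left, 𝒰.U l)
  let gl := chartPt G (𝒰.hU l)
  -- the translated functions
  let pp : ∀ i, VecGrp.pt R (Γ(G.left, 𝒰.U i) ⊗[R] Bl) ⟶ G := fun i =>
    (VecGrp.ptMap (Algebra.TensorProduct.includeRight : Bl →ₐ[R] Γ(G.left, 𝒰.U i) ⊗[R] Bl) ≫ gl) *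
      (VecGrp.ptMap (Algebra.TensorProduct.includeLeft : _ →ₐ[R] Γ(G.left, 𝒰.U i) ⊗[R] Bl) ≫ chartPt G (𝒰.hU i))
  have hcompat : ∀ {i : 𝒰.J} {t : 𝒰.T} (h : 𝒰.V t ≤ 𝒰.U i) (a : A),
      (resAff G (𝒰.hU i) (𝒰.hV t) h).toLinearMap.rTensor Bl (pull (pp i) a) =
        pull ((VecGrp.ptMap (Algebra.TensorProduct.includeRight : Bl →ₐ[R] Γ(G.left, 𝒰.V t) ⊗[R] Bl) ≫ gl) *
          (VecGrp.ptMap (Algebra.TensorProduct.includeLeft : _ →ₐ[R] Γ(G.left, 𝒰.V t) ⊗[R] Bl) ≫
            chartPt G (𝒰.hV t))) a := by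
    intro i t h a
    let θ : Γ(G.left, 𝒰.U i) ⊗[R] Bl →ₐ[R] Γ(G.left, 𝒰.V t) ⊗[R] Bl :=
      Algebra.TensorProduct.map (resAff G (𝒰.hU i) (𝒰.hV t) h) (AlgHom.id R Bl)
    show θ (pull (pp i) a) = _
    rw [← pull_ptMap]
    refine congrArg (fun q => pull q a) ?_
    show VecGrp.ptMap θ ≫ (_ * _) = _
    rw [MonObj.comp_mul]
    congr 1
    · rw [← Category.assoc]
      refine congrArg (· ≫ gl) (Over.OverMorphism.ext ?_)
      show Spec.map _ ≫ Spec.map _ = Spec.map _
      rw [← Spec.map_comp, ← CommRingCat.ofHom_comp]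
      congr 2
      ext b; simp [θ]
    · rw [← ptMap_resAff G (𝒰.hU i) (𝒰.hV t) h, ← Category.assoc, ← Category.assoc]
      refine congrArg (· ≫ chartPt G (𝒰.hU i)) (Over.OverMorphism.ext ?_)
      show Spec.map _ ≫ Spec.map _ = Spec.map _ ≫ Spec.map _
      rw [← Spec.map_comp, ← CommRingCat.ofHom_comp, ← Spec.map_comp, ← CommRingCat.ofHom_comp]
      congr 2
  have hT : ∀ a : A, ∃ z : A ⊗[R] Bl, ∀ i, (resTop G (𝒰.hU i)).toLinearMap.rTensor Bl z = pull (pp i) a :=
    fun a => 𝒰.exists_of_compatible Bl (fun i => pull (pp i) a) fun t => (hcompat _ a).trans (hcompat _ a).symm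
  choose T₀ hT₀ using hT
  let T : A →ₗ[R] A ⊗[R] Bl :=
    { toFun := T₀
      map_add' := fun a b => 𝒰.eq_of_res_eq Bl _ _ fun i => by rw [map_add, hT₀, hT₀, hT₀, map_add]
      map_smul' := fun r a => 𝒰.eq_of_res_eq Bl _ _ fun i => by
        rw [map_smul, hT₀, hT₀, RingHom.id_apply, map_smul] }
  -- the two elements of `A ⊗ (Bl ⊗ E)` agree
  have hz : (orb m gl).lTensor A c = TensorProduct.assoc R A Bl E (T.rTensor E c) := by
    refine 𝒰.eq_of_res_eq (Bl ⊗[R] E) _ _ fun i => ?_
    refine (TensorProduct.assoc R Γ(G.left, 𝒰.U i) Bl E).symm.injective ?_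
    have hl : ∀ v : A ⊗[R] E, (resTop G (𝒰.hU i)).toLinearMap.rTensor (Bl ⊗[R] E) ((orb m gl).lTensor A v) =
        (orb m gl).lTensor _ ((resTop G (𝒰.hU i)).toLinearMap.rTensor E v) := fun v => by
      rw [← LinearMap.comp_apply, ← LinearMap.comp_apply, LinearMap.rTensor_comp_lTensor,
        LinearMap.lTensor_comp_rTensor]
    have hr : ∀ w : (A ⊗[R] Bl) ⊗[R] E, (TensorProduct.assoc R Γ(G.left, 𝒰.U i) Bl E).symm
        ((resTop G (𝒰.hU i)).toLinearMap.rTensor (Bl ⊗[R] E) (TensorProduct.assoc R A Bl E w)) =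
          ((resTop G (𝒰.hU i)).toLinearMap.rTensor Bl).rTensor E w := by
      intro w
      induction w using TensorProduct.induction_on with
      | zero => simp
      | add a b ha hb => simp only [map_add, ha, hb]
      | tmul ab e =>
        induction ab using TensorProduct.induction_on with
        | zero => simp
        | add a b ha hb => simp only [TensorProduct.add_tmul, map_add, ha, hb]
        | tmul a b => simp
    have hTi : (resTop G (𝒰.hU i)).toLinearMap.rTensor Bl ∘ₗ T = (pull (pp i)).toLinearMap :=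
      LinearMap.ext fun a => hT₀ a i
    have hres : (pull (chartPt G (𝒰.hU i))).toLinearMap = (resTop G (𝒰.hU i)).toLinearMap :=
      LinearMap.ext fun a => pull_chartPt (𝒰.hU i) a
    rw [hl, hr, ← LinearMap.rTensor_comp_apply, hTi, ← hc _ (pp i), ← hres, ← hc]
    exact assoc_lTensor_orb m (chartPt G (𝒰.hU i)) gl x
  -- apply the functional
  have happ : ∀ v : A ⊗[R] E,
      TensorProduct.lid R (Bl ⊗[R] E) (φ.rTensor (Bl ⊗[R] E) ((orb m gl).lTensor A v)) =
        orb m gl (TensorProduct.lid R E (φ.rTensor E v)) := by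
    intro v
    induction v using TensorProduct.induction_on with
    | zero => simp
    | add a b ha hb => simp only [map_add, ha, hb]
    | tmul a e => simp only [LinearMap.lTensor_tmul, LinearMap.rTensor_tmul, TensorProduct.lid_tmul, map_smul]
  obtain ⟨c', rfl⟩ := hN
  rw [← orb_apply, ← happ, hz]
  refine ⟨TensorProduct.lid R (Bl ⊗[R] N) (φ.rTensor (Bl ⊗[R] N) (TensorProduct.assoc R A Bl N (T.rTensor N c'))), ?_⟩
  rw [← LinearMap.comp_apply (T.rTensor E), LinearMap.rTensor_comp_lTensor, ← LinearMap.lTensor_comp_rTensor,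
    LinearMap.comp_apply]
  generalize T.rTensor N c' = w
  induction w using TensorProduct.induction_on with
  | zero => simp
  | add a b ha hb => simp only [map_add, ha, hb]
  | tmul ab e =>
    induction ab using TensorProduct.induction_on with
    | zero => simp
    | add a b ha hb => simp only [TensorProduct.add_tmul, map_add, ha, hb]
    | tmul a b => simp [TensorProduct.smul_tmul']

theorem exists_fg_stable_of_projective [Flat G.hom] [QuasiCompact G.hom] [QuasiSeparated G.hom]
    (hA : letI := algebraTop G; Module.Projective R Γ(G.left, ⊤)) (M : Submodule R E) (hM : M.FG) :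
    ∃ N : Submodule R E, M ≤ N ∧ N.FG ∧
      ∀ (B : Type u) [CommRing B] [Algebra R B] (g : VecGrp.pt R B ⟶ G) (x : E), x ∈ N →
        m.ρ B g ((1 : B) ⊗ₜ[R] x) ∈ LinearMap.range (N.subtype.baseChange B) := by
  classical
  letI := algebraTop G
  haveI := hA
  obtain ⟨𝒰⟩ := nonempty_cover G
  choose c hc using exists_coaction m 𝒰
  choose s π hπ using fun x => exists_coordinates (R := R) (A := Γ(G.left, ⊤)) (E := E) (c x)
  obtain ⟨t, rfl⟩ := hM
  let y : E → Γ(G.left, ⊤) → E := fun x a => TensorProduct.lid R E ((π x a).rTensor E (c x))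
  let S : Finset E := t.biUnion fun x => (s x).image (y x)
  let N : Submodule R E := Submodule.span R S
  have hmem : ∀ x ∈ t, c x ∈ LinearMap.range (N.subtype.lTensor Γ(G.left, ⊤)) := by
    intro x hx
    rw [hπ x]
    exact Submodule.sum_mem _ fun a ha => ⟨a ⊗ₜ ⟨y x a, Submodule.subset_span (Finset.mem_coe.2
      (Finset.mem_biUnion.2 ⟨x, hx, Finset.mem_image_of_mem _ ha⟩))⟩, rfl⟩
  refine ⟨N, Submodule.span_le.2 fun x hx => ?_, Submodule.fg_span S.finite_toSet, fun B _ _ g z hz => ?_⟩
  · let e : VecGrp.pt R R ⟶ G := 1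
    have h1 : (1 : R) ⊗ₜ[R] x = (pull e).toLinearMap.rTensor E (c x) := by
      rw [← hc x R e, map_one]; rfl
    obtain ⟨w, hw⟩ := hmem x hx
    rw [← hw, ← LinearMap.comp_apply, LinearMap.rTensor_comp_lTensor, ← LinearMap.lTensor_comp_rTensor,
      LinearMap.comp_apply] at h1
    have h2 := congrArg (TensorProduct.lid R E) h1
    rw [TensorProduct.lid_tmul, one_smul] at h2
    rw [SetLike.mem_coe, h2]
    generalize (pull e).toLinearMap.rTensor N w = v
    induction v using TensorProduct.induction_on with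
    | zero => simp
    | add a b ha hb => rw [map_add, map_add]; exact add_mem ha hb
    | tmul r n => simp only [LinearMap.lTensor_tmul, TensorProduct.lid_tmul]; exact N.smul_mem _ n.2
  · refine (Submodule.span_le (p := ((LinearMap.range (N.subtype.baseChange B)).restrictScalars R).comap
      (orb m g))).2 ?_ hz
    intro z hz
    obtain ⟨x, hx, hz⟩ := Finset.mem_biUnion.1 hz
    obtain ⟨a, -, rfl⟩ := Finset.mem_image.1 hz
    exact rho_mem_of_coefficients m 𝒰 x (c x) (hc x) N (hmem x hx) (π x a) g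

end Groth.Agent.GModFin3
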