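import Groth.Agent.Lib.GModFin3.Basic
import Mathlib.AlgebraicGeometry.Morphisms.QuasiSeparated
import Mathlib.RingTheory.Flat.Basic

/-!
# Global functions of a quasi-compact quasi-separated scheme over an affine base as an equalizer
-/

set_option autoImplicit false
set_option linter.style.haveILetI false
set_option backward.isDefEq.respectTransparency.types false

universe u

open CategoryTheory MonoidalCategory CartesianMonoidalCategory MonObj AlgebraicGeometry TopologicalSpace Opposite
open scoped TensorProduct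

noncomputable section

namespace Groth.Agent.GModFin3

variable {R : Type u} [CommRing R] (G : Over (Spec (CommRingCat.of R)))

/-- The global functions as an algebra over the base. -/
@[reducible] def algebraTop : Algebra R Γ(G.left, ⊤) :=
  (((Scheme.ΓSpecIso (CommRingCat.of R)).inv ≫ G.hom.appTop).hom).toAlgebra

theorem preimage_fromSpec_comp {U : G.left.Opens} (hU : IsAffineOpen U) :
    Spec.preimage (hU.fromSpec ≫ G.hom) =
      (Scheme.ΓSpecIso (CommRingCat.of R)).inv ≫ G.hom.appLE ⊤ U le_top := by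
  apply Spec.map_injective
  rw [Spec.map_preimage, Spec.map_comp, ← Scheme.isoSpec_Spec_inv, ← IsAffineOpen.fromSpec_top,
    IsAffineOpen.SpecMap_appLE_fromSpec]

/-- Restriction of a global function to an affine open. -/
def resTop {U : G.left.Opens} (hU : IsAffineOpen U) :
    letI := algebraTop G; letI := algebraOfOpen G hU
    Γ(G.left, ⊤) →ₐ[R] Γ(G.left, U) :=
  letI := algebraTop G; letI := algebraOfOpen G hU
  { (G.left.presheaf.map (homOfLE (le_top : U ≤ ⊤)).op).hom with
    commutes' := fun r => by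
      show (G.left.presheaf.map (homOfLE (le_top : U ≤ ⊤)).op).hom _ = (Spec.preimage (hU.fromSpec ≫ G.hom)).hom r
      rw [preimage_fromSpec_comp]
      rfl }

/-- Restriction between affine opens. -/
def resAff {U V : G.left.Opens} (hU : IsAffineOpen U) (hV : IsAffineOpen V) (h : V ≤ U) :
    letI := algebraOfOpen G hU; letI := algebraOfOpen G hV
    Γ(G.left, U) →ₐ[R] Γ(G.left, V) :=
  letI := algebraOfOpen G hU; letI := algebraOfOpen G hV
  { (G.left.presheaf.map (homOfLE h).op).hom with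
    commutes' := fun r => by
      have e : Spec.preimage (hU.fromSpec ≫ G.hom) ≫ G.left.presheaf.map (homOfLE h).op =
          Spec.preimage (hV.fromSpec ≫ G.hom) := by
        apply Spec.map_injective
        rw [Spec.map_comp, Spec.map_preimage, Spec.map_preimage, ← Category.assoc, hU.map_fromSpec hV]
      exact ConcreteCategory.congr_hom e r }

theorem resAff_comp_resTop {U V : G.left.Opens} (hU : IsAffineOpen U) (hV : IsAffineOpen V) (h : V ≤ U)
    (a : Γ(G.left, ⊤)) :
    letI := algebraTop G; letI := algebraOfOpen G hU; letI := algebraOfOpen G hV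
    resAff G hU hV h (resTop G hU a) = resTop G hV a := by
  show (G.left.presheaf.map (homOfLE h).op).hom ((G.left.presheaf.map (homOfLE le_top).op).hom a) =
    (G.left.presheaf.map (homOfLE le_top).op).hom a
  rw [← CommRingCat.comp_apply, ← Functor.map_comp]
  rfl

theorem ptMap_resAff {U V : G.left.Opens} (hU : IsAffineOpen U) (hV : IsAffineOpen V) (h : V ≤ U) :
    letI := algebraOfOpen G hU; letI := algebraOfOpen G hV
    VecGrp.ptMap (resAff G hU hV h) ≫ chartPt G hU = chartPt G hV :=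
  Over.OverMorphism.ext (hU.map_fromSpec hV _)

variable {G}

/-- Pulling back a global function along a point. -/
def pull {B : Type u} [CommRing B] [Algebra R B] (g : VecGrp.pt R B ⟶ G) :
    letI := algebraTop G
    Γ(G.left, ⊤) →ₐ[R] B :=
  letI := algebraTop G
  { (g.left.appTop ≫ (Scheme.ΓSpecIso (CommRingCat.of B)).hom).hom with
    commutes' := fun r => by
      have e : ((Scheme.ΓSpecIso (CommRingCat.of R)).inv ≫ G.hom.appTop) ≫ g.left.appTop ≫
          (Scheme.ΓSpecIso (CommRingCat.of B)).hom = CommRingCat.ofHom (algebraMap R B) := by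
        rw [Category.assoc, ← Category.assoc G.hom.appTop, ← Scheme.Hom.comp_appTop, Over.w g]
        show _ ≫ (Spec.map (CommRingCat.ofHom (algebraMap R B))).appTop ≫ _ = _
        rw [Scheme.ΓSpecIso_naturality, Iso.inv_hom_id_assoc]
      exact ConcreteCategory.congr_hom e r }

theorem pull_ptMap {B C : Type u} [CommRing B] [Algebra R B] [CommRing C] [Algebra R C] (φ : B →ₐ[R] C)
    (g : VecGrp.pt R B ⟶ G) (a : Γ(G.left, ⊤)) :
    pull (VecGrp.ptMap φ ≫ g) a = φ (pull g a) := by
  have e : (VecGrp.ptMap φ ≫ g).left.appTop ≫ (Scheme.ΓSpecIso (CommRingCat.of C)).hom =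
      (g.left.appTop ≫ (Scheme.ΓSpecIso (CommRingCat.of B)).hom) ≫ CommRingCat.ofHom φ.toRingHom := by
    rw [Category.assoc, ← Scheme.ΓSpecIso_naturality, Over.comp_left, Scheme.Hom.comp_appTop, Category.assoc,
      VecGrp.ptMap_left]
  exact ConcreteCategory.congr_hom e a

theorem pull_chartPt {U : G.left.Opens} (hU : IsAffineOpen U) (a : Γ(G.left, ⊤)) :
    letI := algebraTop G; letI := algebraOfOpen G hU
    pull (chartPt G hU) a = resTop G hU a := by
  have e : hU.fromSpec.appTop ≫ (Scheme.ΓSpecIso Γ(G.left, U)).hom =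
      G.left.presheaf.map (homOfLE (le_top : U ≤ ⊤)).op := by
    rw [IsAffineOpen.fromSpec, Scheme.Hom.comp_appTop, Scheme.Opens.ι_appTop, IsAffineOpen.isoSpec_inv_appTop]
    simp only [Category.assoc, Iso.inv_hom_id, Category.comp_id, Scheme.Opens.topIso_hom]
    exact (Functor.map_comp _ _ _).symm
  exact ConcreteCategory.congr_hom e a

/-- A finite affine cover together with finite affine covers of its pairwise intersections. -/
structure Cover (G : Over (Spec (CommRingCat.of R))) where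
  J : Type u
  [finJ : Fintype J]
  U : J → G.left.Opens
  hU : ∀ i, IsAffineOpen (U i)
  cov : ∀ x, ∃ i, x ∈ U i
  T : Type u
  [finT : Fintype T]
  src : T → J
  tgt : T → J
  V : T → G.left.Opens
  hV : ∀ t, IsAffineOpen (V t)
  le_src : ∀ t, V t ≤ U (src t)
  le_tgt : ∀ t, V t ≤ U (tgt t)
  cov_inter : ∀ i j x, x ∈ U i → x ∈ U j → ∃ t, src t = i ∧ tgt t = j ∧ x ∈ V t

attribute [instance] Cover.finJ Cover.finT

theorem nonempty_cover (G : Over (Spec (CommRingCat.of R))) [QuasiCompact G.hom] [QuasiSeparated G.hom] :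
    Nonempty (Cover G) := by
  classical
  obtain ⟨s, hs, hUaff, hUcov⟩ := exists_cover G
  haveI := hs.fintype
  haveI : QuasiSeparatedSpace G.left := quasiSeparatedSpace_of_quasiSeparated G.hom
  have h2 : ∀ i j : s, ∃ t : Set G.left.Opens, t.Finite ∧
      (∀ W ∈ t, IsAffineOpen W ∧ W ≤ i.1 ∧ W ≤ j.1) ∧ ∀ x, x ∈ i.1 → x ∈ j.1 → ∃ W ∈ t, x ∈ W := by
    intro i j
    have hc : IsCompact ((i.1 : Set G.left) ∩ j.1) :=
      QuasiSeparatedSpace.inter_isCompact _ _ i.1.2 (hUaff _ i.2).isCompact j.1.2 (hUaff _ j.2).isCompact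
    obtain ⟨t, hft, ht, hcov⟩ := hc.elim_finite_subcover_image
      (b := {W : G.left.Opens | IsAffineOpen W ∧ W ≤ i.1 ∧ W ≤ j.1}) (c := fun W => (W : Set G.left))
      (fun W _ => W.2) fun x hx => by
        obtain ⟨W, hW, hxW, hle⟩ := exists_isAffineOpen_mem_and_subset (U := i.1 ⊓ j.1) hx
        exact Set.mem_biUnion ⟨hW, fun y hy => (hle hy).1, fun y hy => (hle hy).2⟩ hxW
    refine ⟨t, ht, fun W hW => hft hW, fun x hx hx' => ?_⟩
    obtain ⟨W, hW, hxW⟩ := Set.mem_iUnion₂.1 (hcov ⟨hx, hx'⟩)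
    exact ⟨W, hW, hxW⟩
  choose t ht hmem hcov using h2
  haveI : ∀ p : s × s, Fintype (t p.1 p.2) := fun p => (ht _ _).fintype
  exact ⟨{
    J := s, U := Subtype.val, hU := fun i => hUaff _ i.2,
    cov := fun x => (hUcov x).elim fun V hV => ⟨⟨V, hV.1⟩, hV.2⟩,
    T := Σ p : s × s, t p.1 p.2, src := fun w => w.1.1, tgt := fun w => w.1.2, V := fun w => w.2.1,
    hV := fun w => (hmem _ _ _ w.2.2).1, le_src := fun w => (hmem _ _ _ w.2.2).2.1,
    le_tgt := fun w => (hmem _ _ _ w.2.2).2.2,
    cov_inter := fun i j x hi hj => by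
      obtain ⟨W, hW, hxW⟩ := hcov i j x hi hj
      exact ⟨⟨(i, j), W, hW⟩, rfl, rfl, hxW⟩ }⟩

namespace Cover

variable (𝒰 : Cover G)

/-- Restriction of global functions to the members of the cover. -/
def res : letI := algebraTop G; letI := fun i => algebraOfOpen G (𝒰.hU i)
    Γ(G.left, ⊤) →ₗ[R] ((i : 𝒰.J) → Γ(G.left, 𝒰.U i)) :=
  letI := algebraTop G; letI := fun i => algebraOfOpen G (𝒰.hU i)
  LinearMap.pi fun i => (resTop G (𝒰.hU i)).toLinearMap

/-- The difference of the two restrictions to the overlaps. -/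
def diff : letI := fun i => algebraOfOpen G (𝒰.hU i); letI := fun t => algebraOfOpen G (𝒰.hV t)
    ((i : 𝒰.J) → Γ(G.left, 𝒰.U i)) →ₗ[R] ((t : 𝒰.T) → Γ(G.left, 𝒰.V t)) :=
  letI := fun i => algebraOfOpen G (𝒰.hU i); letI := fun t => algebraOfOpen G (𝒰.hV t)
  LinearMap.pi fun t =>
    (resAff G (𝒰.hU _) (𝒰.hV t) (𝒰.le_src t)).toLinearMap ∘ₗ LinearMap.proj (𝒰.src t) -
      (resAff G (𝒰.hU _) (𝒰.hV t) (𝒰.le_tgt t)).toLinearMap ∘ₗ LinearMap.proj (𝒰.tgt t)

theorem res_injective : letI := algebraTop G; letI := fun i => algebraOfOpen G (𝒰.hU i)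
    Function.Injective 𝒰.res := by
  intro a b h
  refine G.left.sheaf.eq_of_locally_eq' 𝒰.U ⊤ (fun i => homOfLE le_top) (fun x _ => ?_) a b fun i => congrFun h i
  obtain ⟨i, hi⟩ := 𝒰.cov x
  exact Opens.mem_iSup.2 ⟨i, hi⟩

theorem exact_res_diff : letI := algebraTop G; letI := fun i => algebraOfOpen G (𝒰.hU i)
    letI := fun t => algebraOfOpen G (𝒰.hV t)
    Function.Exact 𝒰.res 𝒰.diff := by
  letI := algebraTop G; letI := fun i => algebraOfOpen G (𝒰.hU i); letI := fun t => algebraOfOpen G (𝒰.hV t)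
  intro b
  constructor
  · intro hb
    have hc : TopCat.Presheaf.IsCompatible G.left.sheaf.obj 𝒰.U b := fun i j => by
      refine G.left.sheaf.eq_of_locally_eq' (fun t : {t : 𝒰.T // 𝒰.src t = i ∧ 𝒰.tgt t = j} => 𝒰.V t.1)
        (𝒰.U i ⊓ 𝒰.U j) (fun t => homOfLE (le_inf ((𝒰.le_src t.1).trans (congrArg 𝒰.U t.2.1).le) ((𝒰.le_tgt t.1).trans (congrArg 𝒰.U t.2.2).le))) ?_ _ _ ?_
      · intro x hx
        obtain ⟨t, h1, h2, h3⟩ := 𝒰.cov_inter i j x hx.1 hx.2
        exact Opens.mem_iSup.2 ⟨⟨t, h1, h2⟩, h3⟩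
      · rintro ⟨t, rfl, rfl⟩
        have h0 : (G.left.presheaf.map (homOfLE (𝒰.le_src t)).op).hom (b (𝒰.src t)) =
            (G.left.presheaf.map (homOfLE (𝒰.le_tgt t)).op).hom (b (𝒰.tgt t)) := sub_eq_zero.1 (congrFun hb t)
        change (G.left.presheaf.map _).hom ((G.left.presheaf.map _).hom _) =
          (G.left.presheaf.map _).hom ((G.left.presheaf.map _).hom _)
        rw [← CommRingCat.comp_apply, ← CommRingCat.comp_apply, ← Functor.map_comp, ← Functor.map_comp]
        exact h0
    obtain ⟨a, ha, -⟩ := G.left.sheaf.existsUnique_gluing' 𝒰.U ⊤ (fun i => homOfLE le_top) (fun x _ => by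
      obtain ⟨i, hi⟩ := 𝒰.cov x
      exact Opens.mem_iSup.2 ⟨i, hi⟩) b hc
    exact ⟨a, funext fun i => ha i⟩
  · rintro ⟨a, rfl⟩
    funext t
    exact sub_eq_zero.2 ((resAff_comp_resTop G _ _ _ a).trans (resAff_comp_resTop G _ _ _ a).symm)

section Tensor

variable (P : Type u) [AddCommGroup P] [Module R P] [Module.Flat R P]

theorem eq_of_res_eq : letI := algebraTop G; letI := fun i => algebraOfOpen G (𝒰.hU i)
    ∀ z z' : Γ(G.left, ⊤) ⊗[R] P, (∀ i, (resTop G (𝒰.hU i)).toLinearMap.rTensor P z =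
      (resTop G (𝒰.hU i)).toLinearMap.rTensor P z') → z = z' := by
  letI := algebraTop G; letI := fun i => algebraOfOpen G (𝒰.hU i)
  classical
  intro z z' h
  refine Module.Flat.rTensor_preserves_injective_linearMap (M := P) 𝒰.res 𝒰.res_injective ?_
  refine (TensorProduct.piLeft (R := R) (N := P) (M := fun i => Γ(G.left, 𝒰.U i))).injective ?_
  funext i
  have h1 : ∀ w, TensorProduct.piLeft (R := R) (N := P) (M := fun i => Γ(G.left, 𝒰.U i)) (𝒰.res.rTensor P w) i =
      (resTop G (𝒰.hU i)).toLinearMap.rTensor P w := by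
    intro w
    induction w using TensorProduct.induction_on with
    | zero => simp
    | add a b ha hb => simp only [map_add, Pi.add_apply, ha, hb]
    | tmul a q => simp [res]
  rw [h1, h1, h i]

theorem exists_of_compatible : letI := algebraTop G; letI := fun i => algebraOfOpen G (𝒰.hU i)
    letI := fun t => algebraOfOpen G (𝒰.hV t)
    ∀ b : (i : 𝒰.J) → Γ(G.left, 𝒰.U i) ⊗[R] P,
      (∀ t, (resAff G (𝒰.hU _) (𝒰.hV t) (𝒰.le_src t)).toLinearMap.rTensor P (b (𝒰.src t)) =
        (resAff G (𝒰.hU _) (𝒰.hV t) (𝒰.le_tgt t)).toLinearMap.rTensor P (b (𝒰.tgt t))) →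
      ∃ z : Γ(G.left, ⊤) ⊗[R] P, ∀ i, (resTop G (𝒰.hU i)).toLinearMap.rTensor P z = b i := by
  letI := algebraTop G; letI := fun i => algebraOfOpen G (𝒰.hU i); letI := fun t => algebraOfOpen G (𝒰.hV t)
  classical
  intro b hb
  let pU := TensorProduct.piLeft (R := R) (N := P) (M := fun i => Γ(G.left, 𝒰.U i))
  let pV := TensorProduct.piLeft (R := R) (N := P) (M := fun t => Γ(G.left, 𝒰.V t))
  have hex := Module.Flat.rTensor_exact P 𝒰.exact_res_diff
  have hd : ∀ w t, pV (𝒰.diff.rTensor P w) t =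
      (resAff G (𝒰.hU _) (𝒰.hV t) (𝒰.le_src t)).toLinearMap.rTensor P (pU w (𝒰.src t)) -
        (resAff G (𝒰.hU _) (𝒰.hV t) (𝒰.le_tgt t)).toLinearMap.rTensor P (pU w (𝒰.tgt t)) := by
    intro w t
    induction w using TensorProduct.induction_on with
    | zero => simp
    | add a c ha hc => simp only [map_add, Pi.add_apply, ha, hc]; abel
    | tmul a q => simp [pU, pV, diff, TensorProduct.sub_tmul]
  obtain ⟨z, hz⟩ := (hex (pU.symm b)).1 (pV.injective (funext fun t => by
    rw [hd, LinearEquiv.apply_symm_apply, hb, sub_self, map_zero, Pi.zero_apply]))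
  refine ⟨z, fun i => ?_⟩
  have h1 : ∀ w, pU (𝒰.res.rTensor P w) i = (resTop G (𝒰.hU i)).toLinearMap.rTensor P w := by
    intro w
    induction w using TensorProduct.induction_on with
    | zero => simp
    | add a c ha hc => simp only [map_add, Pi.add_apply, ha, hc]
    | tmul a q => simp [pU, res]
  rw [← h1, hz, LinearEquiv.apply_symm_apply]

end Tensor

end Cover

end Groth.Agent.GModFin3
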